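import Groth.Agent.H7Lim.EtaleSplitInt.Residue
import Mathlib.RingTheory.Etale.QuasiFinite
import Mathlib.RingTheory.Etale.Basic
import Mathlib.RingTheory.IntegralClosure.IntegralRestrict
import Mathlib.RingTheory.Spectrum.Prime.Topology
import Mathlib.RingTheory.Ideal.GoingUp

/-!
Splitting an integral algebra with finitely many points over `p` along an étale neighbourhood.
-/

set_option autoImplicit false
set_option linter.style.haveILetI false
universe u

open TensorProduct

namespace Groth.Agent.H7Lim.EtaleSplitInt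

theorem exists_killing {R' M : Type u} [CommRing R'] [CommRing M] [Algebra R' M]
    [Algebra.IsIntegral R' M] (P : Ideal R') [P.IsPrime] (e : M) (he : IsIdempotentElem e)
    (h : ∀ Q : Ideal M, Q.IsPrime → Q.comap (algebraMap R' M) = P → e ∈ Q) :
    ∃ f ∉ P, ∃ N : ℕ, algebraMap R' M f ^ N * e = 0 := by
  have hcl := PrimeSpectrum.isClosedMap_comap_of_isIntegral (algebraMap R' M)
    (algebraMap_isIntegral_iff.mpr ‹_›) _ (PrimeSpectrum.isClosed_zeroLocus {1 - e})
  obtain ⟨I, hI⟩ := (PrimeSpectrum.isClosed_iff_zeroLocus_ideal _).mp hcl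
  have hP : (⟨P, inferInstance⟩ : PrimeSpectrum R') ∉ PrimeSpectrum.zeroLocus (I : Set R') := by
    rw [← hI]
    rintro ⟨Q, hQ, hQP⟩
    have h1 : e ∈ Q.asIdeal := h Q.asIdeal Q.2 (congrArg PrimeSpectrum.asIdeal hQP)
    have h2 : 1 - e ∈ Q.asIdeal := hQ rfl
    exact Q.2.ne_top (Q.asIdeal.eq_top_iff_one.mpr (by simpa using add_mem h1 h2))
  obtain ⟨f, hfI, hfP⟩ := SetLike.not_le_iff_exists.mp
    (fun hle : I ≤ P => hP hle)
  refine ⟨f, hfP, ?_⟩
  have hnil : IsNilpotent (algebraMap R' M f * e) := by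
    rw [nilpotent_iff_mem_prime]
    intro Q hQ
    by_cases heQ : e ∈ Q
    · exact Q.mul_mem_left _ heQ
    · have h1 : 1 - e ∈ Q := (hQ.mem_or_mem (by rw [he.mul_one_sub_self]; exact Q.zero_mem :
        e * (1 - e) ∈ Q)).resolve_left heQ
      have h2 : PrimeSpectrum.comap (algebraMap R' M) ⟨Q, hQ⟩ ∈ PrimeSpectrum.zeroLocus (I : Set R') := by
        rw [← hI]
        exact ⟨⟨Q, hQ⟩, by simpa using h1, rfl⟩
      exact Q.mul_mem_right _ (h2 hfI)
  obtain ⟨N, hN⟩ := hnil
  refine ⟨N + 1, ?_⟩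
  have := hN
  rw [mul_pow] at this
  calc algebraMap R' M f ^ (N + 1) * e = algebraMap R' M f ^ (N + 1) * e ^ (N + 1) := by
        rw [he.pow_succ_eq]
    _ = (algebraMap R' M f ^ N * e ^ N) * (algebraMap R' M f * e) := by ring
    _ = 0 := by rw [this, zero_mul]

variable {R S : Type u} [CommRing R] [CommRing S] [Algebra R S] [Algebra.IsIntegral R S]

theorem exists_finite_separating (p : Ideal R) [p.IsPrime]
    (hfin : {q : PrimeSpectrum S | q.asIdeal.comap (algebraMap R S) = p}.Finite) :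
    ∃ S₁ : Subalgebra R S, Module.Finite R S₁ ∧
      ∀ q q' : PrimeSpectrum S, q.asIdeal.comap (algebraMap R S) = p →
        q'.asIdeal.comap (algebraMap R S) = p →
        q.asIdeal.comap S₁.val.toRingHom = q'.asIdeal.comap S₁.val.toRingHom → q = q' := by
  classical
  let T := {q : PrimeSpectrum S | q.asIdeal.comap (algebraMap R S) = p}
  have hs : ∀ ab : PrimeSpectrum S × PrimeSpectrum S, ∃ s : S, ab.1 ≠ ab.2 →
      ¬ (s ∈ ab.1.asIdeal ↔ s ∈ ab.2.asIdeal) := fun ab => by
    by_cases h : ab.1 = ab.2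
    · exact ⟨0, fun hne => absurd h hne⟩
    · obtain ⟨s, hs⟩ : ∃ s, ¬ (s ∈ ab.1.asIdeal ↔ s ∈ ab.2.asIdeal) := by
        by_contra! hall
        exact h (PrimeSpectrum.ext (Ideal.ext hall))
      exact ⟨s, fun _ => hs⟩
  choose s hs using hs
  let G : Set S := s '' (T ×ˢ T)
  have hG : G.Finite := (hfin.prod hfin).image _
  refine ⟨Algebra.adjoin R G, Module.Finite.iff_fg.mpr
    (fg_adjoin_of_finite hG fun x _ => Algebra.IsIntegral.isIntegral x), fun q q' hq hq' h => ?_⟩
  by_contra hne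
  refine hs (q, q') hne ?_
  have hmem : s (q, q') ∈ Algebra.adjoin R G := Algebra.subset_adjoin ⟨(q, q'), ⟨hq, hq'⟩, rfl⟩
  have := SetLike.ext_iff.mp h ⟨_, hmem⟩
  simpa [Ideal.mem_comap] using this

theorem exists_etale_decomposition (p : Ideal R) [p.IsPrime]
    (hfin : {q : PrimeSpectrum S | q.asIdeal.comap (algebraMap R S) = p}.Finite)
    (hPI : ∀ (q : PrimeSpectrum S) (hq : q.asIdeal.comap (algebraMap R S) = p),
      letI := (Ideal.ResidueField.map p q.asIdeal (algebraMap R S) hq.symm).toAlgebra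
      IsPurelyInseparable p.ResidueField q.asIdeal.ResidueField) :
    ∃ (R' : Type u) (_ : CommRing R') (_ : Algebra R R') (P : Ideal R') (_ : P.IsPrime),
      Algebra.Etale R R' ∧ P.comap (algebraMap R R') = p ∧
      ∃ (n : ℕ) (e : Fin n → R' ⊗[R] S), CompleteOrthogonalIdempotents e ∧
        (∀ i, ∃! Q : PrimeSpectrum (R' ⊗[R] S),
          Q.asIdeal.comap (algebraMap R' (R' ⊗[R] S)) = P ∧ e i ∉ Q.asIdeal) ∧
        ∀ (Q : PrimeSpectrum (R' ⊗[R] S)) (hQ : Q.asIdeal.comap (algebraMap R' (R' ⊗[R] S)) = P),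
          letI := (Ideal.ResidueField.map P Q.asIdeal (algebraMap R' (R' ⊗[R] S)) hQ.symm).toAlgebra
          IsPurelyInseparable P.ResidueField Q.asIdeal.ResidueField := by
  classical
  obtain ⟨S₁, hS₁, hinjT⟩ := exists_finite_separating p hfin
  obtain ⟨R', _, _, _, P₀, _, _, n, e, he, P', hP'prime, hP'over, hbij, heP', H⟩ :=
    Algebra.exists_etale_completeOrthogonalIdempotents_forall_liesOver_eq (S := S₁) p
  obtain ⟨f, hf, N, hN⟩ := exists_killing P₀ (e (Fin.last n)) (he.idem _)
    (fun Q hQp hQ => (H Q hQp ⟨hQ.symm⟩).1)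
  let R'' := Localization.Away f
  obtain ⟨P, hP⟩ : (⟨P₀, inferInstance⟩ : PrimeSpectrum R') ∈
      Set.range (PrimeSpectrum.comap (algebraMap R' R'')) := by
    rw [PrimeSpectrum.localization_away_comap_range R'' f]
    exact hf
  have hP₀ : P.asIdeal.comap (algebraMap R' R'') = P₀ := congrArg PrimeSpectrum.asIdeal hP
  haveI : P.asIdeal.LiesOver P₀ := ⟨hP₀.symm⟩
  have hpP : P.asIdeal.comap (algebraMap R R'') = p := by
    rw [IsScalarTower.algebraMap_eq R R' R'', ← Ideal.comap_comap, hP₀]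
    exact (Ideal.over_def P₀ p).symm
  haveI : P.asIdeal.LiesOver p := ⟨hpP.symm⟩
  haveI : Algebra.Etale R R'' := Algebra.Etale.comp R R' R''
  have hbij' : Function.Bijective
      (Ideal.ResidueField.mapₐ p P.asIdeal (Algebra.ofId R R'') (P.asIdeal.over_def p)) := by
    have h1 := (RingHom.surjectiveOnStalks_of_isLocalization (Submonoid.powers f) R'').residueFieldMap_bijective
      P₀ P.asIdeal hP₀.symm
    have e : (Ideal.ResidueField.mapₐ p P.asIdeal (Algebra.ofId R R'') (P.asIdeal.over_def p)).toRingHom =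
        (Ideal.ResidueField.map P₀ P.asIdeal (algebraMap R' R'') hP₀.symm).comp
          (Ideal.ResidueField.mapₐ p P₀ (Algebra.ofId R R') (P₀.over_def p)).toRingHom :=
      Ideal.ResidueField.ringHom_ext (RingHom.ext fun r => by
        simp only [RingHom.comp_apply, AlgHom.toRingHom_eq_coe, RingHom.coe_coe, AlgHom.commutes]
        rw [IsScalarTower.algebraMap_apply R R' P₀.ResidueField, Ideal.ResidueField.map_algebraMap,
          ← IsScalarTower.algebraMap_apply R R' R'']
        exact IsScalarTower.algebraMap_apply R R'' P.asIdeal.ResidueField r)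
    have := h1.comp hbij
    exact (congrArg (fun g : p.ResidueField →+* P.asIdeal.ResidueField => Function.Bijective g) e).mpr this
  let φ : R' ⊗[R] S₁ →ₐ[R] R'' ⊗[R] S :=
    Algebra.TensorProduct.map (IsScalarTower.toAlgHom R R' R'') S₁.val
  have hφR' : ∀ r : R', φ (algebraMap R' (R' ⊗[R] S₁) r) =
      algebraMap R'' (R'' ⊗[R] S) (algebraMap R' R'' r) := fun r => by
    simp [φ, Algebra.TensorProduct.algebraMap_apply]
  have hlast : φ (e (Fin.last n)) = 0 := by
    have h0 : φ (algebraMap R' (R' ⊗[R] S₁) f ^ N * e (Fin.last n)) = 0 := by rw [hN, map_zero]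
    rw [map_mul, map_pow, hφR'] at h0
    exact ((IsLocalization.Away.algebraMap_isUnit (S := R'') f).map
      (algebraMap R'' (R'' ⊗[R] S))).pow N |>.mul_right_eq_zero.mp h0
  let e' : Fin n → R'' ⊗[R] S := fun i => φ (e i.castSucc)
  have he' : CompleteOrthogonalIdempotents e' := by
    refine ⟨⟨fun i => (he.idem _).map φ, fun i j hij => ?_⟩, ?_⟩
    · show φ (e i.castSucc) * φ (e j.castSucc) = 0
      rw [← map_mul, he.ortho (fun h => hij (Fin.castSucc_injective _ h)), map_zero]
    · have h := congrArg φ he.complete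
      rw [map_sum, map_one, Fin.sum_univ_castSucc, hlast, add_zero] at h
      exact h
  -- primes over `P`
  have hQ₁ : ∀ Q : PrimeSpectrum (R'' ⊗[R] S), Q.asIdeal.comap (algebraMap R'' (R'' ⊗[R] S)) = P.asIdeal →
      (Q.asIdeal.comap φ.toRingHom).LiesOver P₀ := fun Q hQ => ⟨by
    ext r
    simp only [Ideal.under, Ideal.mem_comap, AlgHom.toRingHom_eq_coe, RingHom.coe_coe, hφR']
    rw [← hP₀, Ideal.mem_comap, ← hQ, Ideal.mem_comap]⟩
  have hincl : ∀ s : S₁, φ (1 ⊗ₜ s) = 1 ⊗ₜ (s : S) := fun s => by simp [φ]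
  have hover : ∀ Q : PrimeSpectrum (R'' ⊗[R] S), Q.asIdeal.comap (algebraMap R'' (R'' ⊗[R] S)) = P.asIdeal →
      (Q.asIdeal.comap (Algebra.TensorProduct.includeRight : S →ₐ[R] R'' ⊗[R] S).toRingHom).comap
        (algebraMap R S) = p := fun Q hQ => by
    rw [Ideal.comap_comap, AlgHom.toRingHom_eq_coe, AlgHom.comp_algebraMap,
      IsScalarTower.algebraMap_eq R R'' (R'' ⊗[R] S), ← Ideal.comap_comap, hQ, hpP]
  refine ⟨R'', inferInstance, inferInstance, P.asIdeal, P.2, inferInstance, hpP, n, e', he',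
    fun i => ?_, fun Q hQ => ?_⟩
  · -- existence and uniqueness
    have hpi : (P' i).comap (algebraMap R (R' ⊗[R] S₁)) = p := by
      rw [IsScalarTower.algebraMap_eq R R' (R' ⊗[R] S₁), ← Ideal.comap_comap]
      exact (congrArg (fun I : Ideal R' => I.comap (algebraMap R R')) (hP'over i).over.symm).trans
        (Ideal.over_def P₀ p).symm
    let q₁ : Ideal S₁ := (P' i).comap (Algebra.TensorProduct.includeRight : S₁ →ₐ[R] R' ⊗[R] S₁).toRingHom
    have hq₁ : q₁.comap (algebraMap R S₁) = p := by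
      rw [Ideal.comap_comap, AlgHom.toRingHom_eq_coe, AlgHom.comp_algebraMap, hpi]
    letI : Algebra S₁ S := S₁.val.toRingHom.toAlgebra
    haveI : IsScalarTower R S₁ S := IsScalarTower.of_algebraMap_eq fun r => rfl
    haveI : Algebra.IsIntegral S₁ S := Algebra.IsIntegral.tower_top R
    obtain ⟨q, -, hq, hqq₁⟩ := Ideal.exists_ideal_over_prime_of_isIntegral q₁ (⊥ : Ideal S) (by
      intro x hx
      have : x = 0 := Subtype.ext (show (x : S) = 0 from hx)
      rw [this]; exact zero_mem _)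
    have hqp : q.comap (algebraMap R S) = p := by
      rw [IsScalarTower.algebraMap_eq R S₁ S, ← Ideal.comap_comap, hqq₁, hq₁]
    haveI : q.LiesOver p := ⟨hqp.symm⟩
    let Qs := (Ideal.fiberIsoOfBijectiveResidueField (S := S) hbij').symm ⟨q, hq, ‹q.LiesOver p›⟩
    let Q : PrimeSpectrum (R'' ⊗[R] S) := ⟨Qs.1, Qs.2.1⟩
    have hQ : Q.asIdeal.comap (algebraMap R'' (R'' ⊗[R] S)) = P.asIdeal := Qs.2.2.over.symm
    have hQq : Q.asIdeal.comap (Algebra.TensorProduct.includeRight : S →ₐ[R] R'' ⊗[R] S).toRingHom = q :=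
      Ideal.comap_fiberIsoOfBijectiveResidueField_symm hbij' _
    haveI := hQ₁ Q hQ
    haveI := hP'over i
    have hQP' : Q.asIdeal.comap φ.toRingHom = P' i :=
      Ideal.eq_of_comap_eq_comap_of_bijective_residueFieldMap hbij _ _ (by
        ext s
        simp only [Ideal.mem_comap, AlgHom.toRingHom_eq_coe, RingHom.coe_coe,
          Algebra.TensorProduct.includeRight_apply, hincl]
        have h1 := SetLike.ext_iff.mp hQq (s : S)
        have h2 := SetLike.ext_iff.mp hqq₁ s
        simp only [Ideal.mem_comap, AlgHom.toRingHom_eq_coe, RingHom.coe_coe,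
          Algebra.TensorProduct.includeRight_apply] at h1 h2
        exact h1.trans h2)
    refine ⟨Q, ⟨hQ, fun h => heP' i (hQP' ▸ h)⟩, ?_⟩
    rintro Q' ⟨hQ', hQ'e⟩
    haveI := hQ₁ Q' hQ'
    have hQ'P' : Q'.asIdeal.comap φ.toRingHom = P' i :=
      (H _ inferInstance inferInstance).2 i fun h => hQ'e h
    have hqq : (⟨Q'.asIdeal.comap (Algebra.TensorProduct.includeRight : S →ₐ[R] R'' ⊗[R] S).toRingHom,
        inferInstance⟩ : PrimeSpectrum S) = ⟨q, hq⟩ := by
      refine hinjT _ _ (hover Q' hQ') hqp ?_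
      ext s
      have h3 := SetLike.ext_iff.mp (hQ'P'.trans hQP'.symm) (1 ⊗ₜ s)
      have h1 := SetLike.ext_iff.mp hQq (s : S)
      simp only [Ideal.mem_comap, AlgHom.toRingHom_eq_coe, RingHom.coe_coe,
        Algebra.TensorProduct.includeRight_apply, hincl] at h1 h3 ⊢
      exact h3.trans h1
    haveI : Q'.asIdeal.LiesOver P.asIdeal := ⟨hQ'.symm⟩
    haveI : Q.asIdeal.LiesOver P.asIdeal := ⟨hQ.symm⟩
    exact PrimeSpectrum.ext (Ideal.eq_of_comap_eq_comap_of_bijective_residueFieldMap hbij' _ _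
      ((congrArg PrimeSpectrum.asIdeal hqq).trans hQq.symm))
  · -- residue fields
    let q : PrimeSpectrum S :=
      ⟨Q.asIdeal.comap (Algebra.TensorProduct.includeRight : S →ₐ[R] R'' ⊗[R] S).toRingHom, inferInstance⟩
    have hqp : q.asIdeal.comap (algebraMap R S) = p := hover Q hQ
    letI := (Ideal.ResidueField.map p q.asIdeal (algebraMap R S) hqp.symm).toAlgebra
    haveI := hPI q hqp
    let π : p.ResidueField →+* P.asIdeal.ResidueField :=
      Ideal.ResidueField.map p P.asIdeal (algebraMap R R'') hpP.symm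
    haveI : ExpChar P.asIdeal.ResidueField (ringExpChar p.ResidueField) :=
      expChar_of_injective_ringHom π.injective _
    refine isPurelyInseparable_tensor P.asIdeal Q.asIdeal hQ.symm (ringExpChar p.ResidueField) fun s => ?_
    let j : q.asIdeal.ResidueField →+* Q.asIdeal.ResidueField :=
      Ideal.ResidueField.map q.asIdeal Q.asIdeal
        (Algebra.TensorProduct.includeRight : S →ₐ[R] R'' ⊗[R] S).toRingHom rfl
    let μ := Ideal.ResidueField.map P.asIdeal Q.asIdeal (algebraMap R'' (R'' ⊗[R] S)) hQ.symm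
    have hcomp : j.comp (algebraMap p.ResidueField q.asIdeal.ResidueField) = μ.comp π :=
      Ideal.ResidueField.ringHom_ext (RingHom.ext fun r => by
        simp only [RingHom.comp_apply, RingHom.algebraMap_toAlgebra, μ, j, π,
          Ideal.ResidueField.map_algebraMap, AlgHom.toRingHom_eq_coe, RingHom.coe_coe, AlgHom.commutes]
        exact congrArg _ (IsScalarTower.algebraMap_apply R R'' (R'' ⊗[R] S) r))
    obtain ⟨m, k, hk⟩ := IsPurelyInseparable.pow_mem p.ResidueField (ringExpChar p.ResidueField)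
      (algebraMap S q.asIdeal.ResidueField s)
    refine ⟨m, π k, ?_⟩
    have hs : algebraMap (R'' ⊗[R] S) Q.asIdeal.ResidueField (1 ⊗ₜ s) =
        j (algebraMap S q.asIdeal.ResidueField s) :=
      (Ideal.ResidueField.map_algebraMap q.asIdeal Q.asIdeal
        (Algebra.TensorProduct.includeRight : S →ₐ[R] R'' ⊗[R] S).toRingHom rfl s).symm
    rw [hs, ← map_pow, ← hk]
    exact (congr($hcomp k)).symm

end Groth.Agent.H7Lim.EtaleSplitInt
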