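import Groth.Agent.H7Lim.EtaleSplitInt.SepReduction
import Groth.Agent.H7Lim.EtaleSplitInt.Decompose
import Mathlib.RingTheory.Idempotents

/-!
An integral algebra splits étale locally into pieces with one purely inseparable point.
-/

set_option autoImplicit false
set_option linter.style.haveILetI false
universe u

open TensorProduct

namespace Groth.Agent.H7Lim.EtaleSplitInt

theorem factor_props {R' C : Type u} [CommRing R'] [CommRing C] [Algebra R' C] [Algebra.IsIntegral R' C]
    (P : Ideal R') [P.IsPrime] (e : C) (he : IsIdempotentElem e)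
    (hu : ∃! Q : PrimeSpectrum C, Q.asIdeal.comap (algebraMap R' C) = P ∧ e ∉ Q.asIdeal)
    (hPI : ∀ (Q : PrimeSpectrum C) (hQ : Q.asIdeal.comap (algebraMap R' C) = P),
      letI := (Ideal.ResidueField.map P Q.asIdeal (algebraMap R' C) hQ.symm).toAlgebra
      IsPurelyInseparable P.ResidueField Q.asIdeal.ResidueField) :
    Algebra.IsIntegral R' (C ⧸ Ideal.span {1 - e}) ∧
    ∃ (r : PrimeSpectrum (C ⧸ Ideal.span {1 - e}))
      (hr : r.asIdeal.comap (algebraMap R' (C ⧸ Ideal.span {1 - e})) = P),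
      (∀ r' : PrimeSpectrum (C ⧸ Ideal.span {1 - e}),
        r'.asIdeal.comap (algebraMap R' (C ⧸ Ideal.span {1 - e})) = P → r' = r) ∧
      letI := (Ideal.ResidueField.map P r.asIdeal (algebraMap R' (C ⧸ Ideal.span {1 - e})) hr.symm).toAlgebra
      IsPurelyInseparable P.ResidueField r.asIdeal.ResidueField := by
  let mk := Ideal.Quotient.mk (Ideal.span {1 - e})
  have hsurj : Function.Surjective mk := Ideal.Quotient.mk_surjective
  refine ⟨⟨fun x => ?_⟩, ?_⟩
  · obtain ⟨c, rfl⟩ := hsurj x
    exact (Algebra.IsIntegral.isIntegral (R := R') c).map (Ideal.Quotient.mkₐ R' (Ideal.span {1 - e}))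
  obtain ⟨Q, ⟨hQ, heQ⟩, huniq⟩ := hu
  have hker : RingHom.ker mk ≤ Q.asIdeal := by
    rw [Ideal.mk_ker, Ideal.span_singleton_le_iff_mem]
    exact (Q.2.mem_or_mem (by rw [he.mul_one_sub_self]; exact Q.asIdeal.zero_mem :
      e * (1 - e) ∈ Q.asIdeal)).resolve_left heQ
  let r : PrimeSpectrum (C ⧸ Ideal.span {1 - e}) :=
    ⟨Q.asIdeal.map mk, Ideal.map_isPrime_of_surjective hsurj hker⟩
  have hrQ : Q.asIdeal = r.asIdeal.comap mk := by
    show Q.asIdeal = (Q.asIdeal.map mk).comap mk
    rw [Ideal.comap_map_of_surjective _ hsurj, ← RingHom.ker_eq_comap_bot, sup_of_le_left hker]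
  have hr : r.asIdeal.comap (algebraMap R' (C ⧸ Ideal.span {1 - e})) = P := by
    rw [show algebraMap R' (C ⧸ Ideal.span {1 - e}) = mk.comp (algebraMap R' C) from rfl,
      ← Ideal.comap_comap, ← hrQ, hQ]
  haveI : r.asIdeal.IsPrime := r.2
  refine ⟨r, hr, fun r' hr' => ?_, ?_⟩
  · have h1 : e ∉ r'.asIdeal.comap mk := fun h => by
      have h2 : mk (1 - e) = 0 :=
        Ideal.Quotient.eq_zero_iff_mem.mpr (Ideal.mem_span_singleton_self _)
      rw [map_sub, sub_eq_zero] at h2
      rw [Ideal.mem_comap, ← h2, map_one] at h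
      exact r'.2.ne_top (r'.asIdeal.eq_top_iff_one.mpr h)
    have h3 := huniq ⟨r'.asIdeal.comap mk, inferInstance⟩ ⟨by
      rw [Ideal.comap_comap]; exact hr', h1⟩
    refine PrimeSpectrum.ext ?_
    rw [← Ideal.map_comap_of_surjective _ hsurj r'.asIdeal]
    exact congrArg (Ideal.map mk) (congrArg PrimeSpectrum.asIdeal h3)
  · letI := (Ideal.ResidueField.map P Q.asIdeal (algebraMap R' C) hQ.symm).toAlgebra
    haveI := hPI Q hQ
    let μ := Ideal.ResidueField.map P r.asIdeal (algebraMap R' (C ⧸ Ideal.span {1 - e})) hr.symm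
    let m := Ideal.ResidueField.map Q.asIdeal r.asIdeal mk hrQ
    have hm : Function.Bijective m :=
      (RingHom.surjectiveOnStalks_of_surjective hsurj).residueFieldMap_bijective _ _ hrQ
    have hcomp : m.comp (algebraMap P.ResidueField Q.asIdeal.ResidueField) = μ :=
      Ideal.ResidueField.ringHom_ext (RingHom.ext fun x => by
        simp only [RingHom.comp_apply, RingHom.algebraMap_toAlgebra, m, μ,
          Ideal.ResidueField.map_algebraMap]
        rfl)
    letI alg2 : Algebra P.ResidueField r.asIdeal.ResidueField := μ.toAlgebra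
    let mA : Q.asIdeal.ResidueField →ₐ[P.ResidueField] r.asIdeal.ResidueField :=
      { m with commutes' := fun x => congr($hcomp x) }
    exact (AlgEquiv.ofBijective mA hm).isPurelyInseparable

theorem exists_etale_split {R S : Type u} [CommRing R] [CommRing S] [Algebra R S] [Algebra.IsIntegral R S]
    (p : Ideal R) [p.IsPrime] (hfin : {q : PrimeSpectrum S | q.asIdeal.comap (algebraMap R S) = p}.Finite)
    (hsep : ∀ (q : PrimeSpectrum S) (hq : q.asIdeal.comap (algebraMap R S) = p),
      letI := (Ideal.ResidueField.map p q.asIdeal (algebraMap R S) hq.symm).toAlgebra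
      Module.Finite p.ResidueField (separableClosure p.ResidueField q.asIdeal.ResidueField)) :
    ∃ (R' : Type u) (_ : CommRing R') (_ : Algebra R R') (p' : PrimeSpectrum R'), Algebra.Etale R R' ∧
      p'.asIdeal.comap (algebraMap R R') = p ∧
      ∃ (m : ℕ) (A : Fin m → Type u) (_ : ∀ j, CommRing (A j)) (_ : ∀ j, Algebra R' (A j))
        (_ : R' ⊗[R] S ≃ₐ[R'] (Π j, A j)),
        ∀ j, Algebra.IsIntegral R' (A j) ∧ ∃ (r : PrimeSpectrum (A j))
          (hr : r.asIdeal.comap (algebraMap R' (A j)) = p'.asIdeal),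
          (∀ r' : PrimeSpectrum (A j), r'.asIdeal.comap (algebraMap R' (A j)) = p'.asIdeal → r' = r) ∧
          letI := (Ideal.ResidueField.map p'.asIdeal r.asIdeal (algebraMap R' (A j)) hr.symm).toAlgebra
          IsPurelyInseparable p'.asIdeal.ResidueField r.asIdeal.ResidueField := by
  obtain ⟨R₀, _, _, p₀, _, _, hp₀, hfin₀, hPI₀⟩ := exists_etale_purelyInseparable p hfin hsep
  obtain ⟨R', _, _, P, hP, _, hPp₀, n, e, he, hu, hPI⟩ :=
    exists_etale_decomposition (R := R₀) (S := R₀ ⊗[R] S) p₀ hfin₀ hPI₀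
  letI : Algebra R R' := ((algebraMap R₀ R').comp (algebraMap R R₀)).toAlgebra
  haveI : IsScalarTower R R₀ R' := IsScalarTower.of_algebraMap_eq fun _ => rfl
  refine ⟨R', inferInstance, inferInstance, ⟨P, hP⟩, Algebra.Etale.comp R R₀ R', ?_, n,
    fun j => (R' ⊗[R₀] (R₀ ⊗[R] S)) ⧸ Ideal.span {1 - e j}, fun j => inferInstance,
    fun j => inferInstance, ?_, fun j => factor_props P (e j) (he.idem j) (hu j) hPI⟩
  · rw [IsScalarTower.algebraMap_eq R R₀ R', ← Ideal.comap_comap, hPp₀, hp₀]
  · exact (Algebra.TensorProduct.cancelBaseChange R R₀ R' R' S).symm.trans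
      (AlgEquiv.ofBijective (AlgHom.pi (R := R') fun j => Ideal.Quotient.mkₐ R' (Ideal.span {1 - e j}))
        he.bijective_pi)

end Groth.Agent.H7Lim.EtaleSplitInt
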