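import Mathlib.RingTheory.LocalRing.ResidueField.Ideal
import Mathlib.RingTheory.IntegralClosure.IsIntegralClosure.Basic
import Mathlib.RingTheory.TensorProduct.Basic
import Mathlib.FieldTheory.PurelyInseparable.PerfectClosure

/-!
Residue fields of tensor products: pure inseparability can be checked on generators.
-/

set_option autoImplicit false
universe u

open TensorProduct

namespace Groth.Agent.H7Lim.EtaleSplitInt

variable {R S : Type u} [CommRing R] [CommRing S]

theorem residueField_exists_div (q : Ideal S) [q.IsPrime] (x : q.ResidueField) :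
    ∃ a b : S, algebraMap S q.ResidueField b ≠ 0 ∧
      x = algebraMap S q.ResidueField a / algebraMap S q.ResidueField b := by
  obtain ⟨a, b, hb, rfl⟩ := IsFractionRing.div_surjective (S ⧸ q) x
  obtain ⟨a, rfl⟩ := Ideal.Quotient.mk_surjective a
  obtain ⟨b, rfl⟩ := Ideal.Quotient.mk_surjective b
  refine ⟨a, b, fun h => nonZeroDivisors.ne_zero hb ?_, rfl⟩
  exact Ideal.Quotient.eq_zero_iff_mem.mpr (Ideal.algebraMap_residueField_eq_zero.mp h)

theorem isAlgebraic_residueField [Algebra R S] [Algebra.IsIntegral R S] (p : Ideal R) [p.IsPrime]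
    (q : Ideal S) [q.IsPrime] (hq : p = q.comap (algebraMap R S)) :
    letI := (Ideal.ResidueField.map p q (algebraMap R S) hq).toAlgebra
    Algebra.IsAlgebraic p.ResidueField q.ResidueField := by
  let φ := Ideal.ResidueField.map p q (algebraMap R S) hq
  letI := φ.toAlgebra
  haveI : IsScalarTower R p.ResidueField q.ResidueField := IsScalarTower.of_algebraMap_eq fun r =>
    ((Ideal.ResidueField.map_algebraMap p q (algebraMap R S) hq r).trans
      (IsScalarTower.algebraMap_apply R S q.ResidueField r).symm).symm
  refine ⟨fun x => ?_⟩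
  obtain ⟨a, b, -, rfl⟩ := residueField_exists_div q x
  have hint : ∀ s : S, IsIntegral p.ResidueField (algebraMap S q.ResidueField s) := fun s => by
    have h := (Algebra.IsIntegral.isIntegral (R := R) s).map (IsScalarTower.toAlgHom R S q.ResidueField)
    exact h.tower_top
  rw [isAlgebraic_iff_isIntegral, div_eq_mul_inv]
  exact (hint a).mul (IsIntegral.inv (hint b))

/-- Pure inseparability of the residue field of a prime of `R' ⊗ S` over the one of `R'`. -/
theorem isPurelyInseparable_tensor {R' : Type u} [CommRing R'] [Algebra R R'] [Algebra R S]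
    (P : Ideal R') [P.IsPrime] (Q : Ideal (R' ⊗[R] S)) [Q.IsPrime]
    (hQ : P = Q.comap (algebraMap R' (R' ⊗[R] S))) (c : ℕ) [ExpChar P.ResidueField c]
    (H : ∀ s : S, ∃ n : ℕ, algebraMap (R' ⊗[R] S) Q.ResidueField (1 ⊗ₜ s) ^ c ^ n ∈
      (Ideal.ResidueField.map P Q (algebraMap R' (R' ⊗[R] S)) hQ).range) :
    letI := (Ideal.ResidueField.map P Q (algebraMap R' (R' ⊗[R] S)) hQ).toAlgebra
    IsPurelyInseparable P.ResidueField Q.ResidueField := by
  letI := (Ideal.ResidueField.map P Q (algebraMap R' (R' ⊗[R] S)) hQ).toAlgebra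
  rw [isPurelyInseparable_iff_pow_mem P.ResidueField c]
  let C := perfectClosure P.ResidueField Q.ResidueField
  have hC : ∀ z : R' ⊗[R] S, algebraMap (R' ⊗[R] S) Q.ResidueField z ∈ C := by
    intro z
    induction z using TensorProduct.induction_on with
    | zero => rw [map_zero]; exact zero_mem _
    | tmul r s =>
      have e : (r ⊗ₜ[R] s : R' ⊗[R] S) = algebraMap R' (R' ⊗[R] S) r * (1 ⊗ₜ s) := by
        rw [Algebra.TensorProduct.algebraMap_apply, Algebra.TensorProduct.tmul_mul_tmul, one_mul]
        simp
      rw [e, map_mul]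
      refine mul_mem ?_ ((mem_perfectClosure_iff_pow_mem c).2 (H s))
      rw [← Ideal.ResidueField.map_algebraMap P Q (algebraMap R' (R' ⊗[R] S)) hQ r]
      exact C.algebraMap_mem _
    | add x y hx hy => rw [map_add]; exact add_mem hx hy
  intro x
  obtain ⟨a, b, -, rfl⟩ := residueField_exists_div Q x
  exact (mem_perfectClosure_iff_pow_mem c).1 (div_mem (hC a) (hC b))

end Groth.Agent.H7Lim.EtaleSplitInt
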