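import Groth.Agent.H7Lim.EtaleSplitInt.Residue
import Groth.Agent.S9435
import Mathlib.FieldTheory.IsSepClosed
import Mathlib.FieldTheory.SplittingField.IsSplittingField
import Mathlib.RingTheory.Artinian.Module

/-!
After an étale base change all residue extensions over the chosen prime are purely inseparable.
-/

set_option autoImplicit false
set_option linter.style.haveILetI false
universe u

open TensorProduct Polynomial

namespace Groth.Agent.H7Lim.EtaleSplitInt

/-- `κq ⊗[R] L` is finite over `κq` if `L` is finite over the residue field `κ(p)`. -/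
theorem moduleFinite_tensor {R κq L : Type u} [CommRing R] (p : Ideal R) [p.IsPrime] [Field κq]
    [Algebra R κq] (hker : ∀ c : R, c ∉ p → algebraMap R κq c ≠ 0) [Field L]
    [Algebra p.ResidueField L] [Algebra R L] [IsScalarTower R p.ResidueField L]
    [Module.Finite p.ResidueField L] : Module.Finite κq (κq ⊗[R] L) := by
  classical
  obtain ⟨G, hG⟩ := Module.Finite.fg_top (R := p.ResidueField) (M := L)
  refine ⟨⟨G.image fun b => (1 : κq) ⊗ₜ[R] b, eq_top_iff.mpr fun z hz => ?_⟩⟩
  clear hz
  let N := Submodule.span κq (↑(G.image fun b => (1 : κq) ⊗ₜ[R] b) : Set (κq ⊗[R] L))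
  show z ∈ N
  have hb : ∀ (l : L) (w : κq), w ⊗ₜ[R] l ∈ N := by
    intro l
    have hl : l ∈ Submodule.span p.ResidueField (↑G : Set L) := hG ▸ Submodule.mem_top
    induction hl using Submodule.span_induction with
    | mem b hb =>
      intro w
      have : w ⊗ₜ[R] b = w • ((1 : κq) ⊗ₜ[R] b) := by rw [smul_tmul', smul_eq_mul, mul_one]
      rw [this]
      exact N.smul_mem _ (Submodule.subset_span (by simpa using ⟨b, hb, rfl⟩))
    | zero => intro w; rw [tmul_zero]; exact zero_mem _
    | add x y _ _ hx hy => intro w; rw [tmul_add]; exact add_mem (hx w) (hy w)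
    | smul k x _ hx =>
      intro w
      obtain ⟨a, c, hc, rfl⟩ := residueField_exists_div p k
      have hc' : algebraMap R κq c ≠ 0 := hker c fun h => hc (Ideal.algebraMap_residueField_eq_zero.mpr h)
      have hw : w = c • ((algebraMap R κq c)⁻¹ * w) := by
        rw [Algebra.smul_def, ← mul_assoc, mul_inv_cancel₀ hc', one_mul]
      have key : c • (algebraMap R p.ResidueField a / algebraMap R p.ResidueField c) • x = a • x := by
        rw [← algebraMap_smul p.ResidueField c, smul_smul, mul_div_cancel₀ _ hc, algebraMap_smul]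
      rw [hw, smul_tmul, key, tmul_smul, smul_tmul']
      exact hx _
  induction z using TensorProduct.induction_on with
  | zero => exact zero_mem _
  | tmul w l => exact hb l w
  | add x y hx hy => exact add_mem hx hy

variable {R S : Type u} [CommRing R] [CommRing S] [Algebra R S] [Algebra.IsIntegral R S]

theorem exists_etale_purelyInseparable (p : Ideal R) [p.IsPrime]
    (hfin : {q : PrimeSpectrum S | q.asIdeal.comap (algebraMap R S) = p}.Finite)
    (hsep : ∀ (q : PrimeSpectrum S) (hq : q.asIdeal.comap (algebraMap R S) = p),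
      letI := (Ideal.ResidueField.map p q.asIdeal (algebraMap R S) hq.symm).toAlgebra
      Module.Finite p.ResidueField (separableClosure p.ResidueField q.asIdeal.ResidueField)) :
    ∃ (R' : Type u) (_ : CommRing R') (_ : Algebra R R') (p' : Ideal R') (_ : p'.IsPrime),
      Algebra.Etale R R' ∧ p'.comap (algebraMap R R') = p ∧
      {Q : PrimeSpectrum (R' ⊗[R] S) | Q.asIdeal.comap (algebraMap R' (R' ⊗[R] S)) = p'}.Finite ∧
      ∀ (Q : PrimeSpectrum (R' ⊗[R] S)) (hQ : Q.asIdeal.comap (algebraMap R' (R' ⊗[R] S)) = p'),
        letI := (Ideal.ResidueField.map p' Q.asIdeal (algebraMap R' (R' ⊗[R] S)) hQ.symm).toAlgebra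
        IsPurelyInseparable p'.ResidueField Q.asIdeal.ResidueField := by
  classical
  let T := {q : PrimeSpectrum S | q.asIdeal.comap (algebraMap R S) = p}
  haveI : Finite T := hfin.to_subtype
  let K := p.ResidueField
  let Ω := SeparableClosure K
  -- minimal polynomials of bases of the separable closures
  have hpol : ∀ q : T, ∃ G : Finset K[X], (∀ f ∈ G, f.Separable) ∧
      letI := (Ideal.ResidueField.map p q.1.asIdeal (algebraMap R S) q.2.symm).toAlgebra
      ∃ B : Finset q.1.asIdeal.ResidueField,
        (separableClosure K q.1.asIdeal.ResidueField : Set q.1.asIdeal.ResidueField) ⊆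
          (Submodule.span K (↑B : Set q.1.asIdeal.ResidueField) : Set q.1.asIdeal.ResidueField) ∧
        ∀ b ∈ B, minpoly K b ∈ G := by
    intro q
    letI := (Ideal.ResidueField.map p q.1.asIdeal (algebraMap R S) q.2.symm).toAlgebra
    haveI : Module.Finite K (separableClosure K q.1.asIdeal.ResidueField) := hsep q.1 q.2
    let b := Module.finBasis K (separableClosure K q.1.asIdeal.ResidueField)
    refine ⟨Finset.univ.image fun i => minpoly K (b i : q.1.asIdeal.ResidueField), ?_,
      Finset.univ.image fun i => (b i : q.1.asIdeal.ResidueField), ?_, ?_⟩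
    · intro f hf
      obtain ⟨i, -, rfl⟩ := Finset.mem_image.mp hf
      exact mem_separableClosure_iff.mp (b i).2
    · intro e he
      have h := b.sum_repr ⟨e, he⟩
      have h' := congrArg (fun z : separableClosure K q.1.asIdeal.ResidueField => (z : q.1.asIdeal.ResidueField)) h
      simp only [AddSubmonoidClass.coe_finset_sum, IntermediateField.coe_smul] at h'
      rw [← h']
      exact Submodule.sum_mem _ fun i _ =>
        Submodule.smul_mem _ _ (Submodule.subset_span (by simp))
    · intro x hx
      obtain ⟨i, -, rfl⟩ := Finset.mem_image.mp hx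
      exact Finset.mem_image_of_mem _ (Finset.mem_univ i)
  choose G hGsep B hB hBG using hpol
  let roots : Set Ω := ⋃ q : T, ⋃ f ∈ G q, f.rootSet Ω
  haveI : Finite roots := (Set.finite_iUnion fun q =>
    (G q).finite_toSet.biUnion fun f _ => f.rootSet_finite Ω).to_subtype
  let L := IntermediateField.adjoin K roots
  haveI : FiniteDimensional K L := IntermediateField.finiteDimensional_adjoin fun x _ =>
    (Algebra.IsSeparable.isSeparable K x).isIntegral
  haveI : Algebra.IsSeparable K L := Algebra.isSeparable_tower_bot_of_isSeparable K L Ω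
  have hsplit : ∀ q : T, ∀ f ∈ G q, (f.map (algebraMap K L)).Splits := fun q f hf =>
    IntermediateField.splits_of_splits (IsSepClosed.splits_codomain f (hGsep q f hf))
      fun x hx => IntermediateField.subset_adjoin K roots
        (Set.mem_iUnion.mpr ⟨q, Set.mem_iUnion₂.mpr ⟨f, hf, hx⟩⟩)
  obtain ⟨R', _, _, _, ψ, hψ⟩ := S9435.result R p L
  let p' : Ideal R' := RingHom.ker ψ.toRingHom
  haveI hp' : p'.IsPrime := RingHom.ker_isPrime _
  have hp'p : p'.comap (algebraMap R R') = p := by
    ext r
    rw [Ideal.mem_comap, RingHom.mem_ker, AlgHom.toRingHom_eq_coe, RingHom.coe_coe, ψ.commutes,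
      IsScalarTower.algebraMap_apply R K L, map_eq_zero, Ideal.algebraMap_residueField_eq_zero]
  let lam : p'.ResidueField →+* L := Ideal.ResidueField.lift p' ψ.toRingHom le_rfl
    fun x hx => (isUnit_iff_ne_zero (a := ψ.toRingHom x)).mpr hx
  have hlam : ∀ x, lam (algebraMap R' p'.ResidueField x) = ψ x := fun x =>
    Ideal.ResidueField.lift_algebraMap _ _ _ _ x
  have hlamsurj : Function.Surjective lam := by
    intro l
    have hl : l ∈ Subfield.closure (Set.range ψ) := hψ ▸ Subfield.mem_top l
    have hle : Subfield.closure (Set.range ψ) ≤ lam.fieldRange :=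
      Subfield.closure_le.mpr (by rintro _ ⟨x, rfl⟩; exact ⟨_, hlam x⟩)
    exact hle hl
  let lamE : p'.ResidueField ≃+* L := RingEquiv.ofBijective lam ⟨lam.injective, hlamsurj⟩
  let π : K →+* p'.ResidueField := Ideal.ResidueField.map p p' (algebraMap R R') hp'p.symm
  have hπ : lam.comp π = algebraMap K L := Ideal.ResidueField.ringHom_ext (RingHom.ext fun r => by
    simp only [π, RingHom.comp_apply, Ideal.ResidueField.map_algebraMap, hlam, AlgHom.commutes]
    exact IsScalarTower.algebraMap_apply R K L r)
  -- the data at a prime over `p'`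
  have key : ∀ (Q : PrimeSpectrum (R' ⊗[R] S))
      (_ : Q.asIdeal.comap (algebraMap R' (R' ⊗[R] S)) = p'),
      Q.asIdeal.comap (Algebra.TensorProduct.includeRight : S →ₐ[R] R' ⊗[R] S).toRingHom ∈
        PrimeSpectrum.asIdeal '' T := by
    intro Q hQ
    refine ⟨PrimeSpectrum.comap (Algebra.TensorProduct.includeRight : S →ₐ[R] R' ⊗[R] S).toRingHom Q, ?_, rfl⟩
    show Ideal.comap (algebraMap R S) (Ideal.comap _ Q.asIdeal) = p
    rw [Ideal.comap_comap, AlgHom.toRingHom_eq_coe, AlgHom.comp_algebraMap, IsScalarTower.algebraMap_eq R R' (R' ⊗[R] S),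
      ← Ideal.comap_comap, hQ, hp'p]
  refine ⟨R', inferInstance, inferInstance, p', hp', inferInstance, hp'p, ?_, fun Q hQ => ?_⟩
  · -- finiteness
    let Φ : ∀ q : T, R' ⊗[R] S →+* q.1.asIdeal.ResidueField ⊗[R] L := fun q =>
      (Algebra.TensorProduct.lift ((Algebra.TensorProduct.includeRight :
        L →ₐ[R] q.1.asIdeal.ResidueField ⊗[R] L).comp ψ)
        ((Algebra.TensorProduct.includeLeft :
          q.1.asIdeal.ResidueField →ₐ[R] q.1.asIdeal.ResidueField ⊗[R] L).comp
            (IsScalarTower.toAlgHom R S q.1.asIdeal.ResidueField))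
        fun _ _ => Commute.all _ _).toRingHom
    have hfinite : ∀ q : T, Finite (PrimeSpectrum (q.1.asIdeal.ResidueField ⊗[R] L)) := by
      intro q
      haveI : Module.Finite q.1.asIdeal.ResidueField (q.1.asIdeal.ResidueField ⊗[R] L) :=
        moduleFinite_tensor p fun c hc h => hc (by
          rw [IsScalarTower.algebraMap_apply R S q.1.asIdeal.ResidueField,
            Ideal.algebraMap_residueField_eq_zero] at h
          exact q.2 ▸ h)
      haveI : IsArtinianRing (q.1.asIdeal.ResidueField ⊗[R] L) :=
        IsArtinianRing.of_finite q.1.asIdeal.ResidueField _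
      infer_instance
    haveI := hfinite
    refine (Set.finite_iUnion fun q : T => Set.finite_range (PrimeSpectrum.comap (Φ q))).subset ?_
    intro Q hQ
    obtain ⟨q, hqT, hq⟩ := key Q hQ
    refine Set.mem_iUnion.mpr ⟨⟨q, hqT⟩, ?_⟩
    let j : q.asIdeal.ResidueField →ₐ[R] Q.asIdeal.ResidueField :=
      Ideal.ResidueField.mapₐ q.asIdeal Q.asIdeal
        (Algebra.TensorProduct.includeRight : S →ₐ[R] R' ⊗[R] S) hq
    let l : L →ₐ[R] Q.asIdeal.ResidueField :=
      { ((Ideal.ResidueField.map p' Q.asIdeal (algebraMap R' (R' ⊗[R] S)) hQ.symm).comp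
          lamE.symm.toRingHom) with
        commutes' := fun r => by
          have : lamE.symm (algebraMap R L r) = algebraMap R' p'.ResidueField (algebraMap R R' r) := by
            rw [RingEquiv.symm_apply_eq]
            exact ((hlam _).trans (ψ.commutes r)).symm
          show Ideal.ResidueField.map p' Q.asIdeal _ hQ.symm (lamE.symm (algebraMap R L r)) = _
          rw [this, Ideal.ResidueField.map_algebraMap, ← IsScalarTower.algebraMap_apply,
            ← IsScalarTower.algebraMap_apply] }
    let h := (Algebra.TensorProduct.lift j l fun _ _ => Commute.all _ _).toRingHom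
    refine ⟨⟨RingHom.ker h, RingHom.ker_isPrime _⟩, PrimeSpectrum.ext ?_⟩
    show (RingHom.ker h).comap (Φ ⟨q, hqT⟩) = Q.asIdeal
    rw [RingHom.comap_ker]
    have : h.comp (Φ ⟨q, hqT⟩) = algebraMap (R' ⊗[R] S) Q.asIdeal.ResidueField := by
      refine Algebra.TensorProduct.ringHom_ext ?_ ?_
      · ext r
        have e : lamE.symm (ψ r) = algebraMap R' p'.ResidueField r := by
          rw [RingEquiv.symm_apply_eq]; exact (hlam r).symm
        simp only [h, Φ, RingHom.comp_apply, AlgHom.toRingHom_eq_coe, RingHom.coe_coe,
          Algebra.TensorProduct.includeLeftRingHom_apply, Algebra.TensorProduct.lift_tmul,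
          AlgHom.comp_apply, map_one, mul_one, Algebra.TensorProduct.includeRight_apply,
          Algebra.TensorProduct.lift_tmul, one_mul]
        show Ideal.ResidueField.map p' Q.asIdeal _ hQ.symm (lamE.symm (ψ r)) = _
        rw [e, Ideal.ResidueField.map_algebraMap]
        simp
      · ext s
        simp only [h, Φ, RingHom.comp_apply, AlgHom.toRingHom_eq_coe, RingHom.coe_coe,
          Algebra.TensorProduct.includeRight_apply, Algebra.TensorProduct.lift_tmul,
          AlgHom.comp_apply, map_one, one_mul, Algebra.TensorProduct.includeLeft_apply,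
          Algebra.TensorProduct.lift_tmul, mul_one, IsScalarTower.coe_toAlgHom']
        exact Ideal.ResidueField.map_algebraMap _ _ _ _ s
    rw [this, Ideal.ker_algebraMap_residueField]
  · -- pure inseparability
    obtain ⟨q, hqT, hq⟩ := key Q hQ
    letI := (Ideal.ResidueField.map p q.asIdeal (algebraMap R S) hqT.symm).toAlgebra
    haveI : Algebra.IsAlgebraic K q.asIdeal.ResidueField := isAlgebraic_residueField p q.asIdeal hqT.symm
    let c := ringExpChar K
    haveI : ExpChar p'.ResidueField c := expChar_of_injective_ringHom π.injective c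
    haveI : ExpChar (separableClosure K q.asIdeal.ResidueField) c :=
      expChar_of_injective_algebraMap (algebraMap K _).injective c
    refine isPurelyInseparable_tensor p' Q.asIdeal hQ.symm c fun s => ?_
    let j : q.asIdeal.ResidueField →+* Q.asIdeal.ResidueField :=
      Ideal.ResidueField.map q.asIdeal Q.asIdeal
        (Algebra.TensorProduct.includeRight : S →ₐ[R] R' ⊗[R] S).toRingHom hq
    let μ := Ideal.ResidueField.map p' Q.asIdeal (algebraMap R' (R' ⊗[R] S)) hQ.symm
    have hcomp : j.comp (algebraMap K q.asIdeal.ResidueField) = μ.comp π :=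
      Ideal.ResidueField.ringHom_ext (RingHom.ext fun r => by
        simp only [RingHom.comp_apply, RingHom.algebraMap_toAlgebra, μ, j, π,
          Ideal.ResidueField.map_algebraMap, AlgHom.toRingHom_eq_coe, RingHom.coe_coe, AlgHom.commutes]
        exact congrArg _ (IsScalarTower.algebraMap_apply R R' (R' ⊗[R] S) r))
    obtain ⟨n, e, he⟩ := IsPurelyInseparable.pow_mem (separableClosure K q.asIdeal.ResidueField) c
      (algebraMap S q.asIdeal.ResidueField s)
    refine ⟨n, ?_⟩
    have hs : algebraMap (R' ⊗[R] S) Q.asIdeal.ResidueField (1 ⊗ₜ s) =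
        j (algebraMap S q.asIdeal.ResidueField s) :=
      (Ideal.ResidueField.map_algebraMap _ _ _ hq s).symm
    rw [hs, ← map_pow, ← he]
    have hspan : ∀ z ∈ Submodule.span K (↑(B ⟨q, hqT⟩) : Set q.asIdeal.ResidueField), j z ∈ μ.range := by
      intro z hz
      induction hz using Submodule.span_induction with
      | mem b hb =>
        set f := minpoly K b with hf_def
        have hfG := hBG ⟨q, hqT⟩ b hb
        have hf : (f.map π).Splits := by
          have h1 := (hsplit ⟨q, hqT⟩ _ hfG).map lamE.symm.toRingHom
          rwa [Polynomial.map_map, ← hπ, ← RingHom.comp_assoc,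
            show lamE.symm.toRingHom.comp lam = RingHom.id _ from RingHom.ext lamE.symm_apply_apply,
            RingHom.id_comp] at h1
        refine hf.mem_range_of_isRoot ((Polynomial.map_ne_zero_iff π.injective).mpr ?_) ?_
        · exact (hGsep ⟨q, hqT⟩ _ hfG).ne_zero
        · rw [Polynomial.map_map, ← hcomp, Polynomial.IsRoot, eval_map, ← hom_eval₂]
          rw [show f.eval₂ (algebraMap K q.asIdeal.ResidueField) b = 0 from minpoly.aeval K b, map_zero]
      | zero => exact ⟨0, by rw [map_zero, map_zero]⟩
      | add x y _ _ hx hy => rw [map_add]; exact add_mem hx hy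
      | smul k x _ hx =>
        rw [Algebra.smul_def, map_mul]
        refine mul_mem ?_ hx
        exact ⟨π k, (congr($hcomp k)).symm⟩
    exact hspan _ (hB ⟨q, hqT⟩ e.2)

end Groth.Agent.H7Lim.EtaleSplitInt
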